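import Groth.Agent.ModDesc.Fam
import Groth.Agent.CohQC.Push
import Groth.Agent.CohFinite.PushLinear
import Groth.Agent.FlatBCD.Core
import Groth.Prelude.Def_Formal

/-!
Base change of cohomology along a finite projective ring map, for an arbitrary scheme.
-/

set_option autoImplicit false
set_option backward.isDefEq.respectTransparency false
set_option linter.style.haveILetI false
set_option maxHeartbeats 1000000

universe u

open CategoryTheory CategoryTheory.Limits AlgebraicGeometry TopologicalSpace Opposite TensorProduct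
open Groth.Agent.QC (res resO res_smul res_res app_res)

noncomputable section

namespace Groth.Agent.FinProjBC

variable {X X' : Scheme.{u}} {A B : Type u} [CommRing A] [CommRing B] [Algebra A B]
  (f : X ⟶ Spec (CommRingCat.of A)) (f' : X' ⟶ Spec (CommRingCat.of B)) (g' : X' ⟶ X)

/-- the structure map on an open -/
def rho (U : X.Opens) : A →+* Γ(X, U) := (resO X (le_top : U ≤ ⊤)).comp (Coh.toGlobal f)

/-- the structure map of the base change on the preimage of an open -/
def beta (U : X.Opens) : B →+* Γ(X', g' ⁻¹ᵁ U) := (resO X' (le_top : g' ⁻¹ᵁ U ≤ ⊤)).comp (Coh.toGlobal f')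

variable (h : IsPullback g' f' f (Spec.map (CommRingCat.ofHom (algebraMap A B))))

include h in
lemma toGlobal_algebraMap (a : A) :
    Coh.toGlobal f' (algebraMap A B a) = g'.appTop (Coh.toGlobal f a) := by
  have h1 := ConcreteCategory.congr_hom (Scheme.ΓSpecIso_inv_naturality (CommRingCat.ofHom (algebraMap A B))) a
  have h2 := congrArg (fun m : X' ⟶ Spec (CommRingCat.of A) =>
    m.appTop.hom ((Scheme.ΓSpecIso (CommRingCat.of A)).inv a)) h.w
  simp only [Scheme.Hom.comp_appTop] at h2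
  refine Eq.trans ?_ h2.symm
  show f'.appTop ((Scheme.ΓSpecIso (CommRingCat.of B)).inv (algebraMap A B a)) = _
  exact congrArg f'.appTop.hom h1

include h in
lemma beta_algebraMap (U : X.Opens) (a : A) :
    beta f' g' U (algebraMap A B a) = (g'.app U).hom (rho f U a) := by
  show resO X' _ (Coh.toGlobal f' (algebraMap A B a)) = _
  rw [toGlobal_algebraMap f f' g' h a]
  exact (ConcreteCategory.congr_hom (g'.naturality (homOfLE (le_top : U ≤ ⊤)).op) _).symm

include h in
lemma isPushout_affine {U : X.Opens} (hU : IsAffineOpen U) :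
    IsPushout (CommRingCat.ofHom (algebraMap A B)) (CommRingCat.ofHom (rho f U))
      (CommRingCat.ofHom (beta f' g' U)) (g'.app U) := by
  let g := Spec.map (CommRingCat.ofHom (algebraMap A B))
  have e0 : g' ⁻¹ᵁ U = g' ⁻¹ᵁ U ⊓ f' ⁻¹ᵁ ⊤ := by simp
  have hpo : IsPushout (f.appLE ⊤ U le_top) (g.appLE ⊤ ⊤ le_top) (g'.appLE U (g' ⁻¹ᵁ U) le_rfl)
      (f'.appLE ⊤ (g' ⁻¹ᵁ U) le_top) := (isIso_pushoutSection_iff h le_top le_top e0).1
    (isIso_pushoutSection_of_isAffineOpen h le_top le_top e0 (isAffineOpen_top _) (isAffineOpen_top _) hU)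
  rw [Scheme.Hom.app_eq_appLE]
  refine hpo.flip.of_iso (Scheme.ΓSpecIso (CommRingCat.of A)) (Scheme.ΓSpecIso (CommRingCat.of B))
    (Iso.refl _) (Iso.refl _) ?_ ?_ ?_ (by simp)
  · simp [g, Scheme.Hom.appLE, ← Scheme.ΓSpecIso_naturality, Scheme.Hom.appTop]
  · ext x
    show f.appLE ⊤ U le_top x = rho f U ((Scheme.ΓSpecIso (CommRingCat.of A)).hom x)
    simp only [rho, RingHom.comp_apply, Coh.toGlobal]
    rw [Scheme.Hom.appLE]
    simp [resO, Scheme.Hom.appTop]
  · ext x
    show f'.appLE ⊤ (g' ⁻¹ᵁ U) le_top x = beta f' g' U ((Scheme.ΓSpecIso (CommRingCat.of B)).hom x)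
    simp only [beta, RingHom.comp_apply, Coh.toGlobal]
    rw [Scheme.Hom.appLE]
    simp [resO, Scheme.Hom.appTop]

variable (M : X.Modules)

/-- the pullback -/
abbrev N : X'.Modules := (Scheme.Modules.pullback g').obj M

/-- the direct image of the pullback -/
abbrev T : X.Modules := (Scheme.Modules.pushforward g').obj (N g' M)

/-- the unit -/
abbrev eta : M ⟶ T g' M := (Scheme.Modules.pullbackPushforwardAdjunction g').unit.app M

/-- multiplication on the direct image -/
def mulT (b : B) : T g' M ⟶ T g' M :=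
  (Scheme.Modules.pushforward g').map (Formal.smulModΓ (N g' M) (Coh.toGlobal f' b))

lemma mulT_app (b : B) (U : X.Opens) (t : Γ(T g' M, U)) :
    (mulT f' g' M b).app U t = (beta f' g' U b • (show Γ(N g' M, g' ⁻¹ᵁ U) from t) :) := rfl

variable [hA : IsAffineHom g'] [hM : Coh.IsQCoh M]

include h in
/-- Sections of the direct image over an affine open are generated by multiples of pulled back sections. -/
theorem span_gen {U : X.Opens} (hU : IsAffineOpen U) : Submodule.span Γ(X, U)
    (Set.range fun p : B × Γ(M, U) => (mulT f' g' M p.1).app U ((eta g' M).app U p.2)) = ⊤ := by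
  refine eq_top_iff.2 fun t _ => ?_
  letI : Algebra Γ(X, U) Γ(X', g' ⁻¹ᵁ U) := (g'.appLE U (g' ⁻¹ᵁ U) le_rfl).hom.toAlgebra
  obtain ⟨Φ, hΦ⟩ := ModDesc.exists_bijective_liftBaseChange g' M hU (hU.preimage g') le_rfl
  obtain ⟨z, hz⟩ := Φ.surjective (show Γ(N g' M, g' ⁻¹ᵁ U) from t)
  have key : ∀ z, (show Γ(T g' M, U) from Φ z) ∈ Submodule.span Γ(X, U)
      (Set.range fun p : B × Γ(M, U) => (mulT f' g' M p.1).app U ((eta g' M).app U p.2)) := by
    intro z
    induction z using TensorProduct.induction_on with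
    | zero => rw [map_zero]; exact zero_mem _
    | add x y hx hy => rw [map_add]; exact add_mem hx hy
    | tmul r' m =>
      have h1 : Φ (r' ⊗ₜ m) = r' • (show Γ(N g' M, g' ⁻¹ᵁ U) from (eta g' M).app U m) := by
        rw [show r' ⊗ₜ[Γ(X, U)] m = r' • ((1 : Γ(X', g' ⁻¹ᵁ U)) ⊗ₜ[Γ(X, U)] m) by
          rw [TensorProduct.smul_tmul', smul_eq_mul, mul_one], map_smul, hΦ, ModDesc.pullSectLE_apply]
        exact congrArg (r' • ·) (QC.res_self _ _ _)
      rw [h1]
      clear h1
      have hpo := isPushout_affine f f' g' h hU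
      letI : Algebra A Γ(X, U) := (rho f U).toAlgebra
      letI : Algebra B Γ(X', g' ⁻¹ᵁ U) := (beta f' g' U).toAlgebra
      letI : Algebra A Γ(X', g' ⁻¹ᵁ U) := ((beta f' g' U).comp (algebraMap A B)).toAlgebra
      haveI : IsScalarTower A B Γ(X', g' ⁻¹ᵁ U) := IsScalarTower.of_algebraMap_eq' rfl
      haveI : IsScalarTower A Γ(X, U) Γ(X', g' ⁻¹ᵁ U) := IsScalarTower.of_algebraMap_eq fun a =>
        (beta_algebraMap f f' g' h U a).trans (by rw [Scheme.Hom.app_eq_appLE]; rfl)
      haveI hp : Algebra.IsPushout A Γ(X, U) B Γ(X', g' ⁻¹ᵁ U) :=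
        (CommRingCat.isPushout_iff_isPushout.1 (by rw [Scheme.Hom.app_eq_appLE] at hpo; exact hpo)).symm
      induction r' using hp.out.inductionOn with
      | zero => rw [zero_smul]; exact zero_mem _
      | tmul b => exact Submodule.subset_span ⟨(b, m), rfl⟩
      | smul r x hx =>
        rw [Algebra.smul_def, mul_smul, RingHom.algebraMap_toAlgebra, ← Scheme.Hom.app_eq_appLE]
        exact Submodule.smul_mem _ r hx
      | add x y hx hy => rw [add_smul]; exact add_mem hx hy
  exact hz ▸ key z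

include h in
/-- A linear form on `B` gives a map out of the direct image. -/
theorem exists_pi (φ : B →ₗ[A] A) :
    ∃ p : T g' M ⟶ M, ∀ (U : X.Opens), IsAffineOpen U → ∀ (b : B) (m : Γ(M, U)),
      p.app U ((mulT f' g' M b).app U ((eta g' M).app U m)) = rho f U (φ b) • m := by
  have hTq : Coh.IsQCoh (T g' M) := by
    haveI := QC.isQCoh_pullback g' hM
    exact QC.isQCoh_pushforward g'
  haveI := hTq
  have hloc : ∀ U : X.affineOpens, ∃ F : ModDesc.Fam (T g' M) M U.1, ∀ (W : X.Opens) (hW : W ≤ U.1) (b : B) (m : Γ(M, W)),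
      F.f W hW ((mulT f' g' M b).app W ((eta g' M).app W m)) = rho f W (φ b) • m := by
    rintro ⟨U, hU⟩
    let R := Γ(X, U)
    let R' := Γ(X', g' ⁻¹ᵁ U)
    letI : Algebra R R' := (g'.appLE U (g' ⁻¹ᵁ U) le_rfl).hom.toAlgebra
    letI : Algebra A R := (rho f U).toAlgebra
    letI : Algebra B R' := (beta f' g' U).toAlgebra
    letI : Algebra A R' := ((beta f' g' U).comp (algebraMap A B)).toAlgebra
    haveI : IsScalarTower A B R' := IsScalarTower.of_algebraMap_eq' rfl
    haveI : IsScalarTower A R R' := IsScalarTower.of_algebraMap_eq fun a =>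
      (beta_algebraMap f f' g' h U a).trans (by rw [Scheme.Hom.app_eq_appLE]; rfl)
    haveI hp : Algebra.IsPushout A R B R' := by
      have hpo := isPushout_affine f f' g' h hU
      rw [Scheme.Hom.app_eq_appLE] at hpo
      exact (CommRingCat.isPushout_iff_isPushout.1 hpo).symm
    let π : R' →ₗ[R] R := hp.out.lift ((Algebra.linearMap A R).comp φ)
    have hπ : ∀ b, π (beta f' g' U b) = rho f U (φ b) := fun b => hp.out.lift_eq _ b
    obtain ⟨Φ, hΦ⟩ := ModDesc.exists_bijective_liftBaseChange g' M hU (hU.preimage g') le_rfl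
    let L : R' ⊗[R] Γ(M, U) →ₗ[R] Γ(M, U) := (TensorProduct.lid R Γ(M, U)).toLinearMap ∘ₗ π.rTensor Γ(M, U)
    let ψ : Γ(T g' M, U) →ₗ[R] Γ(M, U) :=
      { toFun := fun t => L (Φ.symm (show Γ(N g' M, g' ⁻¹ᵁ U) from t))
        map_add' := fun s t => (congrArg L (map_add Φ.symm _ _)).trans (map_add L _ _)
        map_smul' := fun r t => by
          have h1 : (show Γ(N g' M, g' ⁻¹ᵁ U) from r • t) = algebraMap R R' r • (show Γ(N g' M, g' ⁻¹ᵁ U) from t) := by
            rw [RingHom.algebraMap_toAlgebra, ← Scheme.Hom.app_eq_appLE]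
            rfl
          rw [h1, map_smul, algebraMap_smul, map_smul]
          rfl }
    obtain ⟨F, hF⟩ := ModDesc.exists_fam hU ψ
    have hψ : ∀ (b : B) (m : Γ(M, U)), ψ ((mulT f' g' M b).app U ((eta g' M).app U m)) = rho f U (φ b) • m := by
      intro b m
      have h1 : Φ.symm (show Γ(N g' M, g' ⁻¹ᵁ U) from (mulT f' g' M b).app U ((eta g' M).app U m)) =
          beta f' g' U b ⊗ₜ[R] m := by
        rw [LinearEquiv.symm_apply_eq, show beta f' g' U b ⊗ₜ[R] m = beta f' g' U b • ((1 : R') ⊗ₜ[R] m) by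
          rw [TensorProduct.smul_tmul', smul_eq_mul, mul_one], map_smul, hΦ, ModDesc.pullSectLE_apply]
        refine Eq.trans ?_ (congrArg (beta f' g' U b • ·) (QC.res_self _ le_rfl _)).symm
        rfl
      show L (Φ.symm _) = _
      rw [h1]
      show TensorProduct.lid R Γ(M, U) (π (beta f' g' U b) ⊗ₜ[R] m) = _
      rw [TensorProduct.lid_tmul, hπ]
    refine ⟨F, fun W hW b m => ?_⟩
    let F₁ : ModDesc.Fam M M U :=
      { f := fun V hV => (F.f V hV).comp ((ModDesc.Fam.ofHom (eta g' M ≫ mulT f' g' M b) U).f V hV)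
        nat := fun V' V hle hV s => by
          show res M hle (F.f V hV ((ModDesc.Fam.ofHom (eta g' M ≫ mulT f' g' M b) U).f V hV s)) =
            F.f V' (hle.trans hV) ((ModDesc.Fam.ofHom (eta g' M ≫ mulT f' g' M b) U).f V' (hle.trans hV) (res M hle s))
          rw [F.nat, (ModDesc.Fam.ofHom (eta g' M ≫ mulT f' g' M b) U).nat] }
    let F₂ : ModDesc.Fam M M U :=
      ModDesc.Fam.ofHom (Formal.smulModΓ M (Coh.toGlobal f (φ b))) U
    exact ModDesc.Fam.eq_of_agree hU F₁ F₂ le_rfl le_rfl Set.univ Submodule.span_univ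
      (fun s _ => (hF _).trans (hψ b s)) W hW m
  choose F hF using hloc
  obtain ⟨p, hp⟩ := ModDesc.exists_hom_of_fam (M := T g' M) (N := M) (fun U : X.affineOpens => U.1)
    (fun x => by
      obtain ⟨U, hU, hx, -⟩ := exists_isAffineOpen_mem_and_subset (U := (⊤ : X.Opens)) (x := x) trivial
      exact ⟨⟨U, hU⟩, hx⟩) F
    (fun U V x hx => by
      obtain ⟨P, hP, hxP, hle⟩ := exists_isAffineOpen_mem_and_subset hx
      refine ⟨P, hP, _, fun y hy => (hle hy).1, fun y hy => (hle hy).2, hxP, span_gen f f' g' h M hP, ?_⟩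
      rintro _ ⟨⟨b, m⟩, rfl⟩
      exact (hF U P _ b m).trans (hF V P _ b m).symm)
  exact ⟨p, fun U hU b m => (hp ⟨U, hU⟩ U le_rfl _).trans (hF ⟨U, hU⟩ U le_rfl b m)⟩

lemma hom_ext_affine {P Q : X.Modules} (α β : P ⟶ Q)
    (H : ∀ U : X.Opens, IsAffineOpen U → ∀ s : Γ(P, U), α.app U s = β.app U s) : α = β := by
  apply Scheme.Modules.hom_ext
  intro O
  ext s
  refine QC.section_eq_of_locally fun x hx => ?_
  obtain ⟨U, hU, hxU, hle⟩ := exists_isAffineOpen_mem_and_subset hx
  refine ⟨U, hle, hxU, ?_⟩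
  rw [app_res, app_res]
  exact H U hU _

variable [X.Over (Spec (CommRingCat.of A))] [X'.Over (Spec (CommRingCat.of B))]

lemma hhMap_sum {P Q : X.Modules} {ι : Type} [Fintype ι] (φ : ι → (P ⟶ Q)) (q : ℕ) (x : Coh.HH X P q) :
    CohFinite.hhMap A (∑ k, φ k) q x = ∑ k, CohFinite.hhMap A (φ k) q x := by
  refine map_sum (AddMonoidHom.mk' (fun ψ : P ⟶ Q => CohFinite.hhMap A ψ q x) fun a b => ?_) φ Finset.univ
  show Sheaf.H.map (CohFinite.toAbMap (a + b)) q x = _
  rw [CohFinite.toAbMap, Functor.map_add, Sheaf.H.map_add_apply]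
  rfl

/-- Base change of cohomology along a finite projective ring map. -/
theorem nonempty_hh_baseChange [Module.Finite A B] [Module.Projective A B] (g' : X' ⟶ X)
    (h : IsPullback g' (X' ↘ Spec (CommRingCat.of B)) (X ↘ Spec (CommRingCat.of A))
      (Spec.map (CommRingCat.ofHom (algebraMap A B)))) (M : X.Modules) [Coh.IsQCoh M] (i : ℕ) :
    Nonempty ((B ⊗[A] Coh.HH X M i) ≃ₗ[B] Coh.HH X' ((Scheme.Modules.pullback g').obj M) i) := by
  let f := X ↘ Spec (CommRingCat.of A)
  let f' := X' ↘ Spec (CommRingCat.of B)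
  haveI : IsAffineHom g' := MorphismProperty.of_isPullback (P := @IsAffineHom) h.flip inferInstance
  obtain ⟨n, l, r, -, -, hlr⟩ := Module.Finite.exists_comp_eq_id_of_projective A B
  let φ : Fin n → (B →ₗ[A] A) := fun k => (LinearMap.proj k).comp r
  let bs : Fin n → B := fun k => l (Pi.single k 1)
  have hsum : ∀ b, ∑ k, φ k b • bs k = b := fun b => by
    have h1 : r b = ∑ k, φ k b • Pi.single k (1 : A) := by
      conv_lhs => rw [pi_eq_sum_univ' (r b)]
      rfl
    conv_rhs => rw [← LinearMap.id_apply (R := A) b, ← hlr, LinearMap.comp_apply, h1, map_sum]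
    exact Finset.sum_congr rfl fun k _ => (map_smul l _ _).symm
  choose p hp using fun k => exists_pi f f' g' h M (φ k)
  let μ := mulT f' g' M
  let η := eta g' M
  have id1 : ∀ b k, η ≫ μ b ≫ p k = Formal.smulModΓ M (Coh.toGlobal f (φ k b)) := fun b k =>
    hom_ext_affine _ _ fun U hU m => hp k U hU b m
  have id2 : ∑ k, p k ≫ η ≫ μ (bs k) = 𝟙 (T g' M) := by
    refine hom_ext_affine _ _ fun U hU t => ?_
    let L : (T g' M ⟶ T g' M) → (Γ(T g' M, U) →ₗ[Γ(X, U)] Γ(T g' M, U)) := fun ψ =>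
      { toFun := fun s => ψ.app U s, map_add' := map_add _, map_smul' := Scheme.Modules.Hom.app_smul _ }
    suffices L (∑ k, p k ≫ η ≫ μ (bs k)) = L (𝟙 _) from LinearMap.congr_fun this t
    refine LinearMap.ext_on (span_gen f f' g' h M hU) ?_
    rintro _ ⟨⟨b, m⟩, rfl⟩
    let z : Γ(T g' M, U) := (μ b).app U (η.app U m)
    let ev : (T g' M ⟶ T g' M) →+ Γ(T g' M, U) :=
      AddMonoidHom.mk' (fun ψ => ψ.app U z) (fun _ _ => rfl)
    show ev (∑ k, p k ≫ η ≫ μ (bs k)) = z
    rw [map_sum]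
    have h1 : ∀ k, ev (p k ≫ η ≫ μ (bs k)) =
        (beta f' g' U (φ k b • bs k) • (show Γ(N g' M, g' ⁻¹ᵁ U) from η.app U m) :) := fun k => by
      show (μ (bs k)).app U (η.app U ((p k).app U z)) = _
      rw [hp k U hU b m, Scheme.Modules.Hom.app_smul, mulT_app, Algebra.smul_def, map_mul,
        beta_algebraMap f f' g' h, mul_comm, mul_smul]
      rfl
    rw [Finset.sum_congr rfl fun k _ => h1 k]
    refine (Finset.sum_smul (R := Γ(X', g' ⁻¹ᵁ U)) (M := Γ(N g' M, g' ⁻¹ᵁ U))).symm.trans ?_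
    rw [← map_sum, hsum b]
    rfl
  haveI : (N g' M).IsQuasicoherent := QC.isQCoh_pullback g' ‹_›
  obtain ⟨a, ha⟩ := CohFinite.h_push_natural g'.base i
  have hN := CohQC.directAcyclic_of_isAffineHom g' (N g' M)
  let e : Coh.HH X' (N g' M) i ≃+ Coh.HH X (T g' M) i := a (Coh.toAb (N g' M)) hN
  have he : ∀ (b : B) x, e (b • x) = CohFinite.hhMap A (μ b) i (e x) := fun b x =>
    ha (Coh.toAb (N g' M)) hN (Coh.smulAb (N g' M) (Coh.toGlobal f' b)) x
  have heA : ∀ (r : A) x, e (algebraMap A B r • x) = r • e x := fun r x => by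
    rw [he]
    show Sheaf.H.map _ i (e x) = Sheaf.H.map (Coh.smulAb (T g' M) (Coh.toGlobal f r)) i (e x)
    rw [← CohFinite.smulAb_push g' (N g' M) (Coh.toGlobal f r), ← toGlobal_algebraMap f f' g' h r]
    rfl
  letI : Module A (Coh.HH X' (N g' M) i) := Module.compHom _ (algebraMap A B)
  haveI : IsScalarTower A B (Coh.HH X' (N g' M) i) := IsScalarTower.of_algebraMap_smul fun _ _ => rfl
  let v : Coh.HH X M i →ₗ[A] Coh.HH X' (N g' M) i :=
    { toFun := fun x => e.symm (CohFinite.hhMap A η i x)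
      map_add' := fun x y => (congrArg e.symm (map_add _ x y)).trans (map_add e.symm _ _)
      map_smul' := fun r x => e.injective (by
        rw [AddEquiv.apply_symm_apply, map_smul]
        refine Eq.trans ?_ (heA r _).symm
        rw [AddEquiv.apply_symm_apply]) }
  let F : B ⊗[A] Coh.HH X M i →ₗ[B] Coh.HH X' (N g' M) i := LinearMap.liftBaseChange B v
  let G : Coh.HH X' (N g' M) i → B ⊗[A] Coh.HH X M i := fun y =>
    ∑ k, bs k ⊗ₜ[A] CohFinite.hhMap A (p k) i (e y)
  have hFG : ∀ y, F (G y) = y := fun y => e.injective <| by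
    simp only [G, F, map_sum, LinearMap.liftBaseChange_tmul]
    have h1 : ∀ k, e (bs k • v (CohFinite.hhMap A (p k) i (e y))) =
        CohFinite.hhMap A (p k ≫ η ≫ μ (bs k)) i (e y) := fun k => by
      rw [he, CohFinite.hhMap_comp, CohFinite.hhMap_comp]
      show CohFinite.hhMap A _ i (e (e.symm _)) = _
      rw [AddEquiv.apply_symm_apply]
    rw [Finset.sum_congr rfl fun k _ => h1 k, ← hhMap_sum, id2, CohFinite.hhMap_id]
  have hGF : ∀ z, G (F z) = z := by
    have hGadd : ∀ x y, G (x + y) = G x + G y := fun x y => by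
      simp only [G, map_add, tmul_add, Finset.sum_add_distrib]
    intro z
    induction z using TensorProduct.induction_on with
    | zero => simp [G]
    | add x y hx hy => rw [map_add, hGadd, hx, hy]
    | tmul b x =>
      simp only [G, F, LinearMap.liftBaseChange_tmul]
      have h1 : ∀ k, CohFinite.hhMap A (p k) i (e (b • v x)) = φ k b • x := fun k => by
        rw [he]
        show CohFinite.hhMap A (p k) i (CohFinite.hhMap A (μ b) i (e (e.symm _))) = _
        rw [AddEquiv.apply_symm_apply, ← CohFinite.hhMap_comp, ← CohFinite.hhMap_comp, id1]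
        rfl
      simp only [h1, tmul_smul, smul_tmul']
      rw [← sum_tmul, hsum]
  exact ⟨{ F with invFun := G, left_inv := hGF, right_inv := hFG }⟩

end Groth.Agent.FinProjBC
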